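import Groth.Agent.InvX.Tensor

/-!
# An isomorphism out of a tensor product from compatible frames
-/

universe u

open CategoryTheory AlgebraicGeometry TopologicalSpace

set_option backward.isDefEq.respectTransparency false
set_option backward.isDefEq.respectTransparency.types false

namespace Groth.Agent.AmpleY

open Groth.Agent

variable {X : Scheme.{u}} {M M' N : X.Modules}

/-- Frames whose transition functions multiply give `M ⊗ M' ≅ N`. -/
theorem nonempty_tensorMod_iso_of_frames {ι : Type u} (U : ι → X.Opens) (hcov : ∀ x, ∃ a, x ∈ U a)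
    (e : ∀ a, Γ(M, U a)) (e' : ∀ a, Γ(M', U a)) (n : ∀ a, Γ(N, U a))
    (he : ∀ a, InvX.IsFrame (e a)) (he' : ∀ a, InvX.IsFrame (e' a)) (hn : ∀ a, InvX.IsFrame (n a))
    (h : ∀ (a b : ι) (W : X.Opens) (ha : W ≤ U a) (hb : W ≤ U b) (g g' : Γ(X, W)),
      AModX.res M hb (e b) = g • AModX.res M ha (e a) → AModX.res M' hb (e' b) = g' • AModX.res M' ha (e' a) →
        AModX.res N hb (n b) = (g * g') • AModX.res N ha (n a)) :
    Nonempty (CohB1.tensorMod M M' ≅ N) := by
  let t : ∀ a, Γ(CohB1.tensorMod M M', U a) := fun a => InvX.tmul (e a) (e' a)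
  have ht : ∀ a, InvX.IsFrame (t a) := fun a => InvX.isFrame_tmul (he a) (he' a)
  have hfwd : ∀ (a b : ι) (W : X.Opens) (ha : W ≤ U a) (hb : W ≤ U b) (k : Γ(X, W)),
      AModX.res (CohB1.tensorMod M M') hb (t b) = k • AModX.res (CohB1.tensorMod M M') ha (t a) →
        AModX.res N hb (n b) = k • AModX.res N ha (n a) := by
    intro a b W ha hb k hk
    obtain ⟨g, hg⟩ := (he a).exists_coord ha (AModX.res M hb (e b))
    obtain ⟨g', hg'⟩ := (he' a).exists_coord ha (AModX.res M' hb (e' b))
    have hk' : k = g * g' := (ht a).coord_unique ha (by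
      rw [← hk, InvX.res_tmul, InvX.res_tmul, hg, hg', InvX.tmul_smul_left, InvX.tmul_smul_right, mul_smul])
    rw [hk']
    exact h a b W ha hb g g' hg hg'
  have hbwd : ∀ (a b : ι) (W : X.Opens) (ha : W ≤ U a) (hb : W ≤ U b) (k : Γ(X, W)),
      AModX.res N hb (n b) = k • AModX.res N ha (n a) →
        AModX.res (CohB1.tensorMod M M') hb (t b) = k • AModX.res (CohB1.tensorMod M M') ha (t a) := by
    intro a b W ha hb k hk
    obtain ⟨k', hk'⟩ := (ht a).exists_coord ha (AModX.res (CohB1.tensorMod M M') hb (t b))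
    rw [hk', (hn a).coord_unique ha (hk.symm.trans (hfwd a b W ha hb k' hk'))]
  refine ⟨⟨InvX.ofFrames hcov ht hfwd, InvX.ofFrames hcov hn hbwd, ?_, ?_⟩⟩
  · refine InvX.hom_ext_of_frames U hcov t ht fun a => ?_
    rw [Scheme.Modules.Hom.comp_app, ConcreteCategory.comp_apply, InvX.ofFrames_app hcov ht hfwd,
      InvX.ofFrames_app hcov hn hbwd]
    rfl
  · refine InvX.hom_ext_of_frames U hcov n hn fun a => ?_
    rw [Scheme.Modules.Hom.comp_app, ConcreteCategory.comp_apply, InvX.ofFrames_app hcov hn hbwd,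
      InvX.ofFrames_app hcov ht hfwd]
    rfl

end Groth.Agent.AmpleY
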