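import Groth.Agent.AmpleX.Coprod
import Groth.Agent.RelTildeX.SheafCrit
import Mathlib.CategoryTheory.Limits.Preserves.Shapes.Biproducts
import Groth.Prelude.Def_RelProj

/-!
# Modules on a disjoint union with prescribed restrictions
-/

set_option linter.style.haveILetI false
set_option linter.unusedSectionVars false
set_option backward.isDefEq.respectTransparency false
set_option backward.isDefEq.respectTransparency.types false

noncomputable section

universe u

open CategoryTheory CategoryTheory.Limits AlgebraicGeometry TopologicalSpace Opposite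

namespace Groth.Agent.AmpleY

open Groth.Agent

variable {A B P : Scheme.{u}} (i : A ⟶ P) (i' : B ⟶ P) [IsOpenImmersion i] [IsOpenImmersion i']

lemma isZero_restrict_pushforward (hdisj : i.opensRange ⊓ i'.opensRange = ⊥) (L : B.Modules) :
    IsZero (((Scheme.Modules.pushforward i').obj L).restrict i) := by
  refine RelTildeX.isZero_of_locally _ fun x => ⟨⊤, trivial, fun V _ => ?_⟩
  have he : i' ⁻¹ᵁ (i ''ᵁ V) = ⊥ := by
    refine eq_bot_iff.2 fun z hz => ?_
    have : i' z ∈ i.opensRange ⊓ i'.opensRange := ⟨i.image_le_opensRange V hz, z, rfl⟩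
    rw [hdisj] at this
    exact this
  haveI : Subsingleton Γ(L, i' ⁻¹ᵁ (i ''ᵁ V)) := by
    rw [he]
    exact AddCommGrpCat.subsingleton_of_isZero (IsTerminal.isZero (TopCat.Sheaf.isTerminalOfEmpty ⟨L.presheaf, L.isSheaf⟩))
  exact this

theorem exists_module_of_disjoint (hdisj : i.opensRange ⊓ i'.opensRange = ⊥) (L : A.Modules) (L' : B.Modules) :
    ∃ M : P.Modules, Nonempty ((Scheme.Modules.pullback i).obj M ≅ L) ∧
      Nonempty ((Scheme.Modules.pullback i').obj M ≅ L') := by
  refine ⟨(Scheme.Modules.pushforward i).obj L ⊞ (Scheme.Modules.pushforward i').obj L', ⟨?_⟩, ⟨?_⟩⟩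
  · haveI : PreservesColimitsOfSize.{0, 0} (Scheme.Modules.restrictFunctor i) :=
      (Scheme.Modules.restrictAdjunction i).leftAdjoint_preservesColimits
    haveI : PreservesBinaryBiproducts (Scheme.Modules.restrictFunctor i) :=
      preservesBinaryBiproducts_of_preservesBinaryCoproducts _
    exact ((Scheme.Modules.restrictFunctorIsoPullback i).app _).symm ≪≫
      (Scheme.Modules.restrictFunctor i).mapBiprod _ _ ≪≫
      biprod.mapIso (asIso ((Scheme.Modules.restrictAdjunction i).counit.app L))
        (IsZero.isoZero (isZero_restrict_pushforward i i' hdisj L')) ≪≫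
      (isoBiprodZero (isZero_zero _)).symm
  · haveI : PreservesColimitsOfSize.{0, 0} (Scheme.Modules.restrictFunctor i') :=
      (Scheme.Modules.restrictAdjunction i').leftAdjoint_preservesColimits
    haveI : PreservesBinaryBiproducts (Scheme.Modules.restrictFunctor i') :=
      preservesBinaryBiproducts_of_preservesBinaryCoproducts _
    exact ((Scheme.Modules.restrictFunctorIsoPullback i').app _).symm ≪≫
      (Scheme.Modules.restrictFunctor i').mapBiprod _ _ ≪≫
      biprod.mapIso (IsZero.isoZero (isZero_restrict_pushforward i' i (by rwa [inf_comm]) L))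
        (asIso ((Scheme.Modules.restrictAdjunction i').counit.app L')) ≪≫
      (isoZeroBiprod (isZero_zero _)).symm

theorem isQuasiProjective_coprod {X X' Y : Scheme.{u}} (f : X ⟶ Y) (f' : X' ⟶ Y)
    (hf : RelProj.IsQuasiProjective f) (hf' : RelProj.IsQuasiProjective f') :
    RelProj.IsQuasiProjective (coprod.desc f f') := by
  obtain ⟨_, _, L, hL⟩ := hf
  obtain ⟨_, _, L', hL'⟩ := hf'
  obtain ⟨M, ⟨e⟩, ⟨e'⟩⟩ := exists_module_of_disjoint (coprod.inl : X ⟶ X ⨿ X') coprod.inr
    (Opens.ext (isCompl_range_inl_inr X X').disjoint.inter_eq) L L'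
  haveI : LocallyOfFiniteType (coprod.desc f f') := by
    refine IsZariskiLocalAtSource.of_openCover (P := @LocallyOfFiniteType) (coprodOpenCover.{_, 0} X X') ?_
    rintro (⟨⟨⟩⟩ | ⟨⟨⟩⟩) <;> simpa [coprodOpenCover]
  have hA : RelAmple.IsRelAmple (coprod.desc f f') M := by
    refine (AmpleX.isRelAmple_coprod_iff f f' M).2 ⟨?_, ?_⟩
    · exact ⟨hL.1, fun V => AmpleX.isAmple_of_iso
        ((Scheme.Modules.restrictFunctor (f ⁻¹ᵁ V.1).ι).mapIso e.symm) (hL.2 V)⟩
    · exact ⟨hL'.1, fun V => AmpleX.isAmple_of_iso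
        ((Scheme.Modules.restrictFunctor (f' ⁻¹ᵁ V.1).ι).mapIso e'.symm) (hL'.2 V)⟩
  exact ⟨inferInstance, hA.1, M, hA⟩

end Groth.Agent.AmpleY
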